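import Mathlib
import Cfsg.Prelude.Def_GeometricClasses
import Cfsg.Agent.Helper28.Symp

set_option autoImplicit false

/-! # S5650 (subfield subgroups are maximal in `Sp_2m(F)`): definitions (driver helper9)

Index type `Fin m ⊕ Fin m`, form `om = Cfsg.sympForm m F` (`om (f i) (e i) = 1`), vectors and matrices over `F`,
`F₀ : Subfield F`.  `T v c` is the symplectic transvection `x ↦ x + c om(x,v) v`, `S u w c` the map
`x ↦ x + c (om(x,u) w + om(x,w) u)` (an isometry when `om u w = 0`: a "short root element").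
`MS M` is the set of matrices of a subgroup `M ≤ GL`. -/

namespace Cfsg.Agent.S5650P

open Matrix

variable {F : Type*} [Field F] {m : ℕ}

/-- vectors -/
abbrev Vec (m : ℕ) (F : Type*) := Fin m ⊕ Fin m → F
/-- matrices -/
abbrev Mat (m : ℕ) (F : Type*) := Matrix (Fin m ⊕ Fin m) (Fin m ⊕ Fin m) F
/-- the general linear group -/
abbrev GLm (m : ℕ) (F : Type*) [Field F] := Matrix.GeneralLinearGroup (Fin m ⊕ Fin m) F

/-- the symplectic form -/
abbrev om (u v : Vec m F) : F := Cfsg.sympForm m F u v

/-- a rational vector: all entries in `F₀` -/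
def Rat (F₀ : Subfield F) (u : Vec m F) : Prop := ∀ i, u i ∈ F₀

/-- a rational matrix: all entries in `F₀` -/
def RatM (F₀ : Subfield F) (A : Mat m F) : Prop := ∀ i j, A i j ∈ F₀

/-- proportional to a rational vector -/
def PRat (F₀ : Subfield F) (v : Vec m F) : Prop := ∃ z : F, z ≠ 0 ∧ Rat F₀ (z • v)

/-- a non-zero scalar multiple of a rational matrix (membership in `F^* GL(F₀)`) -/
def InN (F₀ : Subfield F) (A : Mat m F) : Prop := ∃ z : F, z ≠ 0 ∧ RatM F₀ (z • A)

/-- the set of matrices of a subgroup of `GL` -/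
def MS (M : Subgroup (GLm m F)) : Set (Mat m F) := {A | ∃ g ∈ M, (g : Mat m F) = A}

/-- the symplectic transvection `x ↦ x + c om(x,v) v` -/
def T (v : Vec m F) (c : F) : Mat m F := Cfsg.sympTransvection m v c

/-- `x ↦ x + c (om(x,u) w + om(x,w) u)` -/
def S (u w : Vec m F) (c : F) : Mat m F :=
  1 + c • (Matrix.vecMulVec w (Matrix.J (Fin m) F *ᵥ u) + Matrix.vecMulVec u (Matrix.J (Fin m) F *ᵥ w))

/-- the standard basis vectors `e_i` -/
def e (i : Fin m) : Vec m F := Pi.single (Sum.inl i) 1

/-- the standard basis vectors `f_i` (`om (f i) (e i) = 1`) -/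
def f (i : Fin m) : Vec m F := Pi.single (Sum.inr i) 1

/-- `M` contains the rational symplectic matrices -/
def HasRatSp (F₀ : Subfield F) (M : Subgroup (GLm m F)) : Prop :=
  ∀ g : GLm m F, RatM F₀ (g : Mat m F) → g ∈ Cfsg.spGL m F → g ∈ M

/-- the parameters of the long root elements of `M` (rational centres) -/
def KT (F₀ : Subfield F) (M : Subgroup (GLm m F)) : Set F :=
  {c | ∀ u : Vec m F, Rat F₀ u → T u c ∈ MS M}

/-- the parameters of the short root elements of `M` (rational isotropic pairs) -/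
def KS (F₀ : Subfield F) (M : Subgroup (GLm m F)) : Set F :=
  {c | ∀ u w : Vec m F, Rat F₀ u → Rat F₀ w → LinearIndependent F ![u, w] → om u w = 0 →
    S u w c ∈ MS M}

/-- "`K = F₀`" for the long root elements, coordinate free -/
def RootRatT (F₀ : Subfield F) (M : Subgroup (GLm m F)) : Prop :=
  ∀ (u : Vec m F) (c : F), Rat F₀ u → u ≠ 0 → T u c ∈ MS M → c ∈ F₀

/-- "`K' = F₀`" for the short root elements, coordinate free -/
def RootRatS (F₀ : Subfield F) (M : Subgroup (GLm m F)) : Prop :=
  ∀ (u w : Vec m F) (c : F), Rat F₀ u → Rat F₀ w → LinearIndependent F ![u, w] → om u w = 0 →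
    S u w c ∈ MS M → c ∈ F₀

end Cfsg.Agent.S5650P
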