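import Mathlib
import Cfsg.Agent.Helper9.S5650.Defs
import Cfsg.Agent.Helper28.Symp

set_option autoImplicit false

/-! # S5650: basic library (driver helper9): the calculus of `T`, `S`, `MS`. -/

namespace Cfsg.Agent.S5650P

open Matrix Cfsg.Agent.Helper28

variable {F : Type*} [Field F] {m : ℕ}

theorem mat_ext {A C : Mat m F} (h : ∀ x : Vec m F, A *ᵥ x = C *ᵥ x) : A = C := by
  apply Matrix.toLin'.injective
  apply LinearMap.ext
  intro x
  rw [Matrix.toLin'_apply, Matrix.toLin'_apply]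
  exact h x

theorem T_mulVec (v : Vec m F) (c : F) (x : Vec m F) : T v c *ᵥ x = x + (c * om x v) • v :=
  sympTransvection_mulVec v c x

theorem S_mulVec (u w : Vec m F) (c : F) (x : Vec m F) :
    S u w c *ᵥ x = x + (c * om x u) • w + (c * om x w) • u := by
  unfold S
  rw [Matrix.add_mulVec, Matrix.one_mulVec, Matrix.smul_mulVec, Matrix.add_mulVec,
    Matrix.vecMulVec_mulVec, Matrix.vecMulVec_mulVec]
  have e1 : om x u = (Matrix.J (Fin m) F *ᵥ u) ⬝ᵥ x := by
    rw [dotProduct_comm]; rfl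
  have e2 : om x w = (Matrix.J (Fin m) F *ᵥ w) ⬝ᵥ x := by
    rw [dotProduct_comm]; rfl
  rw [e1, e2]
  ext i
  simp only [Pi.add_apply, Pi.smul_apply, MulOpposite.smul_eq_mul_unop, MulOpposite.unop_op,
    smul_eq_mul]
  ring

theorem om_swap (u v : Vec m F) : om u v = - om v u := sympForm_swap u v

theorem om_self (v : Vec m F) : om v v = 0 := sympForm_self v

/-- the matrix `A` preserves the form -/
def Pres (A : Mat m F) : Prop := ∀ u v : Vec m F, om (A *ᵥ u) (A *ᵥ v) = om u v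

theorem pres_T (v : Vec m F) (c : F) : Pres (T v c) :=
  (mem_symplecticGroup_iff_preserves _).1 (sympTransvection_mem v c)

theorem pres_S {u w : Vec m F} (h : om u w = 0) (c : F) : Pres (S u w c) := by
  intro x y
  have h' : om w u = 0 := by rw [om_swap, h, neg_zero]
  simp only [S_mulVec, om, sympForm_add_left, sympForm_add_right, sympForm_smul_left,
    sympForm_smul_right, sympForm_self, mul_zero, add_zero]
  have e1 : Cfsg.sympForm m F u w = 0 := h
  have e2 : Cfsg.sympForm m F w u = 0 := h'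
  rw [e1, e2, sympForm_swap w y, sympForm_swap u y]
  ring

theorem T_add_param (v : Vec m F) (c d : F) : T v (c + d) = T v c * T v d :=
  (sympTransvection_mul v c d).symm

theorem T_zero (v : Vec m F) : T v (0 : F) = 1 := sympTransvection_zero v

theorem T_zero_vec (c : F) : T (0 : Vec m F) c = 1 := by
  apply mat_ext
  intro x
  rw [T_mulVec, smul_zero, add_zero, Matrix.one_mulVec]

theorem T_mul_neg (v : Vec m F) (c : F) : T v c * T v (-c) = 1 := by
  rw [← T_add_param, add_neg_cancel, T_zero]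

theorem T_neg_mul (v : Vec m F) (c : F) : T v (-c) * T v c = 1 := by
  rw [← T_add_param, neg_add_cancel, T_zero]

theorem T_smul (a : F) (v : Vec m F) (c : F) : T (a • v) c = T v (a * a * c) := by
  apply mat_ext
  intro x
  rw [T_mulVec, T_mulVec, om, sympForm_smul_right, smul_smul]
  congr 2
  ring

theorem S_comm (u w : Vec m F) (c : F) : S u w c = S w u c := by
  apply mat_ext
  intro x
  rw [S_mulVec, S_mulVec]
  abel

theorem S_zero (u w : Vec m F) : S u w (0 : F) = 1 := by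
  apply mat_ext
  intro x
  simp [S_mulVec]

theorem S_smul_left (a : F) (u w : Vec m F) (c : F) : S (a • u) w c = S u w (a * c) := by
  apply mat_ext
  intro x
  rw [S_mulVec, S_mulVec, om, sympForm_smul_right]
  module

theorem S_smul_right (a : F) (u w : Vec m F) (c : F) : S u (a • w) c = S u w (a * c) := by
  rw [S_comm, S_smul_left, S_comm]

theorem S_add_param {u w : Vec m F} (h : om u w = 0) (c d : F) :
    S u w (c + d) = S u w c * S u w d := by
  have h' : om w u = 0 := by rw [om_swap, h, neg_zero]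
  have e1 : Cfsg.sympForm m F u w = 0 := h
  have e2 : Cfsg.sympForm m F w u = 0 := h'
  apply mat_ext
  intro x
  rw [← Matrix.mulVec_mulVec]
  simp only [S_mulVec, om, sympForm_add_left, sympForm_smul_left, sympForm_self, e1, e2, mul_zero,
    add_zero]
  module

theorem S_mul_neg {u w : Vec m F} (h : om u w = 0) (c : F) : S u w c * S u w (-c) = 1 := by
  rw [← S_add_param h, add_neg_cancel, S_zero]

theorem S_neg_mul {u w : Vec m F} (h : om u w = 0) (c : F) : S u w (-c) * S u w c = 1 := by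
  rw [← S_add_param h, neg_add_cancel, S_zero]

/-- `T (u + w) c = S u w c * T u c * T w c` for orthogonal `u`, `w` -/
theorem T_add_vec {u w : Vec m F} (h : om u w = 0) (c : F) :
    T (u + w) c = S u w c * T u c * T w c := by
  have h' : om w u = 0 := by rw [om_swap, h, neg_zero]
  have e1 : Cfsg.sympForm m F u w = 0 := h
  have e2 : Cfsg.sympForm m F w u = 0 := h'
  apply mat_ext
  intro x
  rw [← Matrix.mulVec_mulVec, ← Matrix.mulVec_mulVec]
  simp only [S_mulVec, T_mulVec, om, sympForm_add_left, sympForm_add_right, sympForm_smul_left,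
    sympForm_self, e1, e2, mul_zero, add_zero]
  module

/-- the composition law in the unipotent radical of the stabiliser of `b` -/
theorem S_mul_S_right {w w' b : Vec m F} (h : om w b = 0) (h' : om w' b = 0) (c : F) :
    S w b c * S w' b c = S (w + w') b c * T b (c * c * om w' w) := by
  have h1 : Cfsg.sympForm m F w b = 0 := h
  have h2 : Cfsg.sympForm m F w' b = 0 := h'
  have h3 : Cfsg.sympForm m F b w = 0 := by rw [sympForm_swap, h1, neg_zero]
  have h4 : Cfsg.sympForm m F b w' = 0 := by rw [sympForm_swap, h2, neg_zero]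
  apply mat_ext
  intro x
  rw [← Matrix.mulVec_mulVec, ← Matrix.mulVec_mulVec]
  simp only [S_mulVec, T_mulVec, om, sympForm_add_left, sympForm_add_right, sympForm_smul_left,
    sympForm_self, h2, h3, h4, mul_zero, add_zero]
  module

/-- conjugation of a transvection by a form preserving matrix -/
theorem conj_T {g g' : Mat m F} (hg : Pres g) (hgg' : g' * g = 1) (v : Vec m F) (c : F) :
    g * T v c * g' = T (g *ᵥ v) c := by
  have hgg : g * g' = 1 := mul_eq_one_comm.1 hgg'
  apply mat_ext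
  intro x
  rw [← Matrix.mulVec_mulVec, ← Matrix.mulVec_mulVec, T_mulVec, T_mulVec, Matrix.mulVec_add,
    Matrix.mulVec_smul, Matrix.mulVec_mulVec, hgg, Matrix.one_mulVec]
  congr 3
  have := hg (g' *ᵥ x) v
  rw [Matrix.mulVec_mulVec, hgg, Matrix.one_mulVec] at this
  exact this.symm

/-- conjugation of a short root element by a form preserving matrix -/
theorem conj_S {g g' : Mat m F} (hg : Pres g) (hgg' : g' * g = 1) (u w : Vec m F) (c : F) :
    g * S u w c * g' = S (g *ᵥ u) (g *ᵥ w) c := by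
  have hgg : g * g' = 1 := mul_eq_one_comm.1 hgg'
  have key : ∀ x v : Vec m F, om (g' *ᵥ x) v = om x (g *ᵥ v) := by
    intro x v
    have := hg (g' *ᵥ x) v
    rw [Matrix.mulVec_mulVec, hgg, Matrix.one_mulVec] at this
    exact this.symm
  apply mat_ext
  intro x
  rw [← Matrix.mulVec_mulVec, ← Matrix.mulVec_mulVec, S_mulVec, S_mulVec, Matrix.mulVec_add,
    Matrix.mulVec_add, Matrix.mulVec_smul, Matrix.mulVec_smul, Matrix.mulVec_mulVec, hgg,
    Matrix.one_mulVec, key, key]

/-! ### `MS` -/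

theorem mem_MS_iff {M : Subgroup (GLm m F)} {A : Mat m F} :
    A ∈ MS M ↔ ∃ g ∈ M, (g : Mat m F) = A := Iff.rfl

theorem coe_mem_MS {M : Subgroup (GLm m F)} {g : GLm m F} (hg : g ∈ M) : (g : Mat m F) ∈ MS M :=
  ⟨g, hg, rfl⟩

theorem one_mem_MS (M : Subgroup (GLm m F)) : (1 : Mat m F) ∈ MS M := ⟨1, M.one_mem, rfl⟩

theorem MS_mul {M : Subgroup (GLm m F)} {A C : Mat m F} (hA : A ∈ MS M) (hC : C ∈ MS M) :
    A * C ∈ MS M := by
  obtain ⟨g, hg, rfl⟩ := hA
  obtain ⟨h, hh, rfl⟩ := hC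
  exact ⟨g * h, M.mul_mem hg hh, rfl⟩

theorem MS_inv_of_mul_eq_one {M : Subgroup (GLm m F)} {A C : Mat m F} (hA : A ∈ MS M)
    (h : A * C = 1) : C ∈ MS M := by
  obtain ⟨g, hg, rfl⟩ := hA
  refine ⟨g⁻¹, M.inv_mem hg, ?_⟩
  have h1 : ((g⁻¹ : GLm m F) : Mat m F) * (g : Mat m F) = 1 := by
    rw [← Units.val_mul, inv_mul_cancel]; rfl
  calc ((g⁻¹ : GLm m F) : Mat m F) = ((g⁻¹ : GLm m F) : Mat m F) * ((g : Mat m F) * C) := by
        rw [h, mul_one]
    _ = C := by rw [← mul_assoc, h1, one_mul]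

/-- cancel a left factor -/
theorem MS_of_mul_left {M : Subgroup (GLm m F)} {A C : Mat m F} (hA : A ∈ MS M)
    (hAC : A * C ∈ MS M) : C ∈ MS M := by
  obtain ⟨g, hg, rfl⟩ := hA
  obtain ⟨h, hh, hAC⟩ := hAC
  refine ⟨g⁻¹ * h, M.mul_mem (M.inv_mem hg) hh, ?_⟩
  have h1 : ((g⁻¹ : GLm m F) : Mat m F) * (g : Mat m F) = 1 := by
    rw [← Units.val_mul, inv_mul_cancel]; rfl
  rw [Units.val_mul, hAC, ← mul_assoc, h1, one_mul]

/-- cancel a right factor -/
theorem MS_of_mul_right {M : Subgroup (GLm m F)} {A C : Mat m F} (hC : C ∈ MS M)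
    (hAC : A * C ∈ MS M) : A ∈ MS M := by
  obtain ⟨g, hg, rfl⟩ := hC
  obtain ⟨h, hh, hAC⟩ := hAC
  refine ⟨h * g⁻¹, M.mul_mem hh (M.inv_mem hg), ?_⟩
  have h1 : (g : Mat m F) * ((g⁻¹ : GLm m F) : Mat m F) = 1 := by
    rw [← Units.val_mul, mul_inv_cancel]; rfl
  rw [Units.val_mul, hAC, mul_assoc, h1, mul_one]

/-- conjugation inside `M` -/
theorem MS_conj {M : Subgroup (GLm m F)} {A : Mat m F} (hA : A ∈ MS M) {g : GLm m F} (hg : g ∈ M) :
    (g : Mat m F) * A * ((g⁻¹ : GLm m F) : Mat m F) ∈ MS M := by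
  obtain ⟨a, ha, rfl⟩ := hA
  exact ⟨g * a * g⁻¹, M.mul_mem (M.mul_mem hg ha) (M.inv_mem hg), rfl⟩

theorem pres_of_mem_spGL {g : GLm m F} (hg : g ∈ Cfsg.spGL m F) : Pres (g : Mat m F) := hg

theorem mem_spGL_of_pres {g : GLm m F} (hg : Pres (g : Mat m F)) : g ∈ Cfsg.spGL m F := hg

theorem inv_mul_coe (g : GLm m F) : ((g⁻¹ : GLm m F) : Mat m F) * (g : Mat m F) = 1 := by
  rw [← Units.val_mul, inv_mul_cancel]; rfl

/-- conjugating a transvection of `M` by an element of `M ≤ Sp` -/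
theorem MS_conj_T {M : Subgroup (GLm m F)} (hM : M ≤ Cfsg.spGL m F) {g : GLm m F} (hg : g ∈ M)
    {v : Vec m F} {c : F} (h : T v c ∈ MS M) : T ((g : Mat m F) *ᵥ v) c ∈ MS M := by
  rw [← conj_T (pres_of_mem_spGL (hM hg)) (inv_mul_coe g)]
  exact MS_conj h hg

/-- conjugating a short root element of `M` by an element of `M ≤ Sp` -/
theorem MS_conj_S {M : Subgroup (GLm m F)} (hM : M ≤ Cfsg.spGL m F) {g : GLm m F} (hg : g ∈ M)
    {u w : Vec m F} {c : F} (h : S u w c ∈ MS M) :
    S ((g : Mat m F) *ᵥ u) ((g : Mat m F) *ᵥ w) c ∈ MS M := by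
  rw [← conj_S (pres_of_mem_spGL (hM hg)) (inv_mul_coe g)]
  exact MS_conj h hg

/-- the transvection as an element of `GL` -/
def Tg (v : Vec m F) (c : F) : GLm m F :=
  ⟨T v c, T v (-c), T_mul_neg v c, T_neg_mul v c⟩

theorem Tg_val (v : Vec m F) (c : F) : ((Tg v c : GLm m F) : Mat m F) = T v c := rfl

theorem Tg_mem_spGL (v : Vec m F) (c : F) : Tg v c ∈ Cfsg.spGL m F := pres_T v c

/-- the short root element as an element of `GL` -/
def Sg {u w : Vec m F} (h : om u w = 0) (c : F) : GLm m F :=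
  ⟨S u w c, S u w (-c), S_mul_neg h c, S_neg_mul h c⟩

theorem Sg_val {u w : Vec m F} (h : om u w = 0) (c : F) :
    ((Sg h c : GLm m F) : Mat m F) = S u w c := rfl

theorem Sg_mem_spGL {u w : Vec m F} (h : om u w = 0) (c : F) : Sg h c ∈ Cfsg.spGL m F :=
  pres_S h c

/-! ### rationality -/

theorem Rat.add {F₀ : Subfield F} {u v : Vec m F} (hu : Rat F₀ u) (hv : Rat F₀ v) :
    Rat F₀ (u + v) := fun i => F₀.add_mem (hu i) (hv i)

theorem Rat.neg {F₀ : Subfield F} {u : Vec m F} (hu : Rat F₀ u) : Rat F₀ (-u) :=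
  fun i => F₀.neg_mem (hu i)

theorem Rat.sub {F₀ : Subfield F} {u v : Vec m F} (hu : Rat F₀ u) (hv : Rat F₀ v) :
    Rat F₀ (u - v) := fun i => F₀.sub_mem (hu i) (hv i)

theorem Rat.smul {F₀ : Subfield F} {a : F} (ha : a ∈ F₀) {u : Vec m F} (hu : Rat F₀ u) :
    Rat F₀ (a • u) := fun i => F₀.mul_mem ha (hu i)

theorem Rat.zero (F₀ : Subfield F) : Rat F₀ (0 : Vec m F) := fun _ => F₀.zero_mem

theorem Rat.single (F₀ : Subfield F) (i : Fin m ⊕ Fin m) {a : F} (ha : a ∈ F₀) :
    Rat F₀ (Pi.single i a : Vec m F) := by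
  intro j
  by_cases h : j = i
  · subst h; rw [Pi.single_eq_same]; exact ha
  · rw [Pi.single_eq_of_ne h]; exact F₀.zero_mem

theorem Rat.basis_e (F₀ : Subfield F) (i : Fin m) : Rat F₀ (e i : Vec m F) := Rat.single F₀ _ F₀.one_mem

theorem Rat.basis_f (F₀ : Subfield F) (i : Fin m) : Rat F₀ (f i : Vec m F) := Rat.single F₀ _ F₀.one_mem

theorem Rat.om_mem {F₀ : Subfield F} {u v : Vec m F} (hu : Rat F₀ u) (hv : Rat F₀ v) :
    om u v ∈ F₀ := by
  rw [om, sympForm_explicit]
  exact F₀.sum_mem fun i _ => F₀.sub_mem (F₀.mul_mem (hu _) (hv _)) (F₀.mul_mem (hu _) (hv _))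

theorem RatM.mulVec {F₀ : Subfield F} {A : Mat m F} (hA : RatM F₀ A) {u : Vec m F}
    (hu : Rat F₀ u) : Rat F₀ (A *ᵥ u) := by
  intro i
  show ∑ j, A i j * u j ∈ F₀
  exact F₀.sum_mem fun j _ => F₀.mul_mem (hA i j) (hu j)

theorem RatM.ofT {F₀ : Subfield F} {v : Vec m F} (hv : Rat F₀ v) {c : F} (hc : c ∈ F₀) :
    RatM F₀ (T v c) := by
  intro i j
  have h : T v c i j = (T v c *ᵥ (Pi.single j 1 : Vec m F)) i := by
    rw [Matrix.mulVec_single_one]; rfl
  rw [h, T_mulVec]
  exact F₀.add_mem (Rat.single F₀ j F₀.one_mem i)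
    (F₀.mul_mem (F₀.mul_mem hc (Rat.om_mem (Rat.single F₀ j F₀.one_mem) hv)) (hv i))

theorem RatM.ofS {F₀ : Subfield F} {u w : Vec m F} (hu : Rat F₀ u) (hw : Rat F₀ w) {c : F}
    (hc : c ∈ F₀) : RatM F₀ (S u w c) := by
  intro i j
  have h : S u w c i j = (S u w c *ᵥ (Pi.single j 1 : Vec m F)) i := by
    rw [Matrix.mulVec_single_one]; rfl
  rw [h, S_mulVec]
  have hj : Rat F₀ (Pi.single j 1 : Vec m F) := Rat.single F₀ j F₀.one_mem
  exact F₀.add_mem (F₀.add_mem (hj i) (F₀.mul_mem (F₀.mul_mem hc (Rat.om_mem hj hu)) (hw i)))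
    (F₀.mul_mem (F₀.mul_mem hc (Rat.om_mem hj hw)) (hu i))

/-- the rational transvections lie in `M` -/
theorem T_mem_of_hasRatSp {F₀ : Subfield F} {M : Subgroup (GLm m F)} (hM : HasRatSp F₀ M)
    {v : Vec m F} (hv : Rat F₀ v) {c : F} (hc : c ∈ F₀) : T v c ∈ MS M :=
  ⟨Tg v c, hM _ (RatM.ofT hv hc) (Tg_mem_spGL v c), rfl⟩

/-- the rational short root elements lie in `M` -/
theorem S_mem_of_hasRatSp {F₀ : Subfield F} {M : Subgroup (GLm m F)} (hM : HasRatSp F₀ M)
    {u w : Vec m F} (hu : Rat F₀ u) (hw : Rat F₀ w) (h : om u w = 0) {c : F} (hc : c ∈ F₀) :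
    S u w c ∈ MS M :=
  ⟨Sg h c, hM _ (RatM.ofS hu hw hc) (Sg_mem_spGL h c), rfl⟩

/-! ### the standard basis -/

theorem om_e_e (i j : Fin m) : om (e i : Vec m F) (e j) = 0 := by
  rw [om, sympForm_explicit]
  apply Finset.sum_eq_zero
  intro k _
  simp [e]

theorem om_f_f (i j : Fin m) : om (f i : Vec m F) (f j) = 0 := by
  rw [om, sympForm_explicit]
  apply Finset.sum_eq_zero
  intro k _
  simp [f]

theorem om_f_e (i j : Fin m) : om (f i : Vec m F) (e j) = if i = j then 1 else 0 := by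
  classical
  rw [om, sympForm_explicit]
  simp only [f, e, Pi.single_apply, Sum.inr.injEq, Sum.inl.injEq, reduceCtorEq, if_false,
    mul_zero, sub_zero]
  rw [Finset.sum_eq_single i]
  · by_cases h : i = j
    · subst h; simp
    · simp [h]
  · intro k _ hk
    simp [hk]
  · intro h
    exact absurd (Finset.mem_univ i) h

theorem om_e_f (i j : Fin m) : om (e i : Vec m F) (f j) = if i = j then -1 else 0 := by
  rw [om_swap, om_f_e]
  by_cases h : i = j
  · subst h; simp
  · have h' : ¬ j = i := fun h' => h h'.symm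
    simp [h, h']

theorem om_e_right (x : Vec m F) (i : Fin m) : om x (e i) = x (Sum.inr i) := by
  classical
  rw [om, sympForm_explicit]
  simp only [e, Pi.single_apply, Sum.inl.injEq, reduceCtorEq, if_false, mul_zero, sub_zero]
  rw [Finset.sum_eq_single i]
  · simp
  · intro k _ hk
    simp [hk]
  · intro h
    exact absurd (Finset.mem_univ i) h

theorem om_f_right (x : Vec m F) (i : Fin m) : om x (f i) = - x (Sum.inl i) := by
  classical
  rw [om, sympForm_explicit]
  simp only [f, Pi.single_apply, Sum.inr.injEq, reduceCtorEq, if_false, mul_zero, zero_sub]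
  rw [Finset.sum_eq_single i]
  · simp
  · intro k _ hk
    simp [hk]
  · intro h
    exact absurd (Finset.mem_univ i) h

end Cfsg.Agent.S5650P
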