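import Mathlib
import Cfsg.Agent.Helper9.S5650.Defs
import Cfsg.Agent.Helper9.S5650.Lib
import Cfsg.Agent.Helper1.S5650LOWRANK
import Cfsg.Agent.Helper1.S5650QRAT
import Cfsg.Agent.Helper17.S5650GENSP
import Cfsg.Agent.Helper17.S5650PROPER
import Cfsg.Agent.Helper18.S5650FULLODD
import Cfsg.Agent.Helper18.S5650NO9
import Cfsg.Agent.Helper18.S5650RANKNULL
import Cfsg.Agent.Helper19.S5650ALLPRATI
import Cfsg.Agent.Helper20.S5650FULL2
import Cfsg.Agent.Helper20.S5650TRANSF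
import Cfsg.Agent.Helper23.S5650KLONG
import Cfsg.Agent.Helper23.S5650KSRING
import Cfsg.Agent.Helper23.S5650TOPKT
import Cfsg.Agent.Helper26.S5650KONE
import Cfsg.Agent.Helper26.S5650MEMSUBF
import Cfsg.Agent.Helper9.S5650DICK
import Cfsg.Agent.Lead.S5650REDUCE
import Cfsg.Agent.Helper25.S5639SUBPRIME
import Cfsg.Agent.Helper1.S5639Final

/-! # S5650: assembly (driver helper9) -/

set_option autoImplicit false

namespace Cfsg.Agent.S5650P

open Matrix Cfsg.Agent.Helper28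

variable {F : Type*} [Field F] {m : ℕ}

namespace ASM

/-- `HasRatSp` for a subgroup containing the standard subfield group of `Sp`. -/
theorem hasRatSp (F₀ : Subfield F) (M : Subgroup (GLm m F))
    (hle : Cfsg.Geo.subfieldSubgroup F₀ (1 : GLm m F) ⊓ Cfsg.spGL m F ≤ M) : HasRatSp F₀ M := by
  intro g hg hsp
  apply hle
  refine Subgroup.mem_inf.2 ⟨?_, hsp⟩
  rw [MEMSUBF.mem_iff]
  exact ⟨1, one_ne_zero, by rw [one_smul]; exact hg⟩

/-- the rational case: every element of `M` is in `F^* GL(F₀)` -/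
theorem inN_of_rootRat [Fintype F] (hm : 7 ≤ m) (F₀ : Subfield F) (r : ℕ) (hr : r.Prime)
    (hcard : Fintype.card F = Nat.card F₀ ^ r) (M : Subgroup (GLm m F))
    (hMsp : M ≤ Cfsg.spGL m F) (hM : HasRatSp F₀ M) (hS : RootRatS F₀ M) (hT : RootRatT F₀ M)
    (h : GLm m F) (hh : h ∈ M) : InN F₀ (h : Mat m F) := by
  apply ALLPRATI.inN_of_all (by omega) F₀ h
  intro u hu hu0
  have hTu : T u 1 ∈ MS M := T_mem_of_hasRatSp hM hu F₀.one_mem
  have hTv : T ((h : Mat m F) *ᵥ u) 1 ∈ MS M := MS_conj_T hMsp hh hTu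
  set v : Vec m F := (h : Mat m F) *ᵥ u with hv
  by_cases h2 : (2 : F) = 0
  · obtain ⟨b, hb, hb0, hvb⟩ :=
      FULL2.exists_perp h2 (by omega) F₀ M hMsp hM hS (one_ne_zero) hTv
    exact LOWRANK.prat (by omega) F₀ M hMsp hM hS one_ne_zero hTv hb hb0 hvb
  · rcases hr.eq_two_or_odd' with h2r | hodd
    · -- r = 2: pigeonhole
      have hq1 : 1 < Nat.card F₀ := by
        have : Finite F₀ := Finite.of_injective _ Subtype.val_injective
        exact Finite.one_lt_card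
      have hlt : Fintype.card F < Nat.card F₀ ^ (2 * m) := by
        rw [hcard, h2r]
        exact Nat.pow_lt_pow_right hq1 (by omega)
      obtain ⟨b, hb, hb0, hvb⟩ := RANKNULL.exists_perp F₀ hlt v
      exact LOWRANK.prat (by omega) F₀ M hMsp hM hS one_ne_zero hTv hb hb0 hvb
    · -- r odd: Dickson
      have hno9 : ∀ x : F, x ^ 2 = -1 → x ∈ F₀ := fun x hx => NO9.mem F₀ r hodd hcard x hx
      apply FULLODD.prat h2 F₀ (one_ne_zero : (1 : F) ≠ 0)
      intro u' hu'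
      exact DICK.sq_mul_mem h2 F₀ M hMsp hM hT hno9 hu' hTv

/-- **the core**: overgroups of the standard subfield group in `Sp` -/
theorem core [Fintype F] (hm : 7 ≤ m) (F₀ : Subfield F) (r : ℕ) (hr : r.Prime)
    (hcard : Fintype.card F = Nat.card F₀ ^ r) (M : Subgroup (GLm m F))
    (hle : Cfsg.Geo.subfieldSubgroup F₀ (1 : GLm m F) ⊓ Cfsg.spGL m F ≤ M)
    (hMsp : M ≤ Cfsg.spGL m F) :
    M = Cfsg.Geo.subfieldSubgroup F₀ (1 : GLm m F) ⊓ Cfsg.spGL m F ∨ M = Cfsg.spGL m F := by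
  have hM : HasRatSp F₀ M := hasRatSp F₀ M hle
  obtain ⟨K, hFK, hK⟩ := KSRING.exists_subfield (by omega) F₀ M hMsp hM
  rcases Cfsg.Agent.S5639P.SUBPRIME.eq_or_top F₀ K hFK r hr hcard with hKF | hKtop
  · left
    have hKS : KS F₀ M = (F₀ : Set F) := by rw [← hK, hKF]
    have hS : RootRatS F₀ M := by
      intro u w c hu hw hi ho h
      have : c ∈ KS F₀ M := KONE.KS_of_one F₀ M hMsp hM hu hw hi ho h
      rw [hKS] at this
      exact this
    have hT : RootRatT F₀ M := by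
      intro u c hu hu0 h
      have h1 : c ∈ KT F₀ M := KONE.KT_of_one F₀ M hMsp hM hu hu0 h
      have h2 : c ∈ KS F₀ M := KLONG.KT_subset_KS F₀ M h1
      rw [hKS] at h2
      exact h2
    apply le_antisymm _ hle
    intro h hh
    refine Subgroup.mem_inf.2 ⟨?_, hMsp hh⟩
    rw [MEMSUBF.mem_iff]
    exact inN_of_rootRat hm F₀ r hr hcard M hMsp hM hS hT h hh
  · right
    have hKS : KS F₀ M = Set.univ := by
      rw [← hK, hKtop]; rfl
    have hKT : KT F₀ M = Set.univ := TOPKT.KT_eq_univ (by omega) F₀ M hMsp hM hKS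
    exact le_antisymm hMsp (GENSP.spGL_le F₀ M hMsp hKT)

/-- the standard subfield group is proper in `Sp` -/
theorem proper [Fintype F] (hm : 7 ≤ m) (F₀ : Subfield F) (r : ℕ) (hr : r.Prime)
    (hcard : Fintype.card F = Nat.card F₀ ^ r) :
    Cfsg.Geo.subfieldSubgroup F₀ (1 : GLm m F) ⊓ Cfsg.spGL m F < Cfsg.spGL m F := by
  refine lt_of_le_of_ne inf_le_right ?_
  intro heq
  obtain ⟨θ, hθ⟩ := Cfsg.Agent.S5639P.FINAL.exists_not_mem F₀ r hr hcard
  obtain ⟨g, hg, hgN⟩ := PROPER.exists_not_inN (m := m) (by omega) F₀ θ hθ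
  apply hgN
  rw [← MEMSUBF.mem_iff]
  have : g ∈ Cfsg.Geo.subfieldSubgroup F₀ (1 : GLm m F) ⊓ Cfsg.spGL m F := by
    rw [heq]; exact hg
  exact this.1

theorem maximal_std [Fintype F] (hm : 7 ≤ m) (F₀ : Subfield F) (r : ℕ) (hr : r.Prime)
    (hcard : Fintype.card F = Nat.card F₀ ^ r) :
    Cfsg.Geo.IsMaximalIn (Cfsg.spGL m F)
      (Cfsg.Geo.subfieldSubgroup F₀ (1 : GLm m F) ⊓ Cfsg.spGL m F) :=
  ⟨proper hm F₀ r hr hcard, fun M hle hMsp => core hm F₀ r hr hcard M hle hMsp⟩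

/-- maximality is transported by an automorphism -/
theorem isMaximalIn_map {G : Type*} [Group G] (φ : G ≃* G) {K H : Subgroup G}
    (h : Cfsg.Geo.IsMaximalIn K H) :
    Cfsg.Geo.IsMaximalIn (K.map φ.toMonoidHom) (H.map φ.toMonoidHom) := by
  have hinj : Function.Injective φ.toMonoidHom := φ.injective
  refine ⟨(Subgroup.map_lt_map_iff_of_injective hinj).2 h.1, ?_⟩
  intro M hHM hMK
  have h1 : H ≤ M.comap φ.toMonoidHom := Subgroup.map_le_iff_le_comap.1 hHM
  have h2 : M.comap φ.toMonoidHom ≤ K := by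
    intro x hx
    have : φ.toMonoidHom x ∈ K.map φ.toMonoidHom := hMK hx
    obtain ⟨y, hy, hxy⟩ := this
    rw [← hinj hxy]; exact hy
  have hsurj : Function.Surjective φ.toMonoidHom := φ.surjective
  have hM : (M.comap φ.toMonoidHom).map φ.toMonoidHom = M :=
    Subgroup.map_comap_eq_self_of_surjective hsurj M
  rcases h.2 _ h1 h2 with h3 | h3
  · left; rw [← hM, h3]
  · right; rw [← hM, h3]

/-- **S5650** -/
theorem maximal [Fintype F] (hm : 7 ≤ m) (F₀ : Subfield F) (r : ℕ) (hr : r.Prime)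
    (hcard : Fintype.card F = Nat.card F₀ ^ r) (P : GLm m F) (ζ : F) (hζ : ζ ≠ 0)
    (hP : Cfsg.Geo.IsFormRationalStructure (Cfsg.sympForm m F) F₀ ζ P) :
    Cfsg.Geo.IsMaximalIn (Cfsg.spGL m F) (Cfsg.Geo.subfieldSubgroup F₀ P ⊓ Cfsg.spGL m F) := by
  obtain ⟨Q, hQ1, hQ2⟩ := REDUCE.exists_conj F₀ P ζ hζ hP
  have h := isMaximalIn_map (MulAut.conj Q) (maximal_std hm F₀ r hr hcard)
  rw [Subgroup.map_inf _ _ _ (MulAut.conj Q).injective, ← hQ1, hQ2] at h
  exact h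

end ASM

end Cfsg.Agent.S5650P
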